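import Cfsg.Agent.Lib.Helper12.TCG.Fi22Ua405.TabT

/-! relator checks for Fi22Ua405, part 2 (generated, helper12) -/

set_option autoImplicit false
set_option maxRecDepth 100000
set_option Elab.async false

namespace Cfsg.Agent.Lib.Helper12.TCG.Fi22Ua405

open Cfsg.Agent.Lib.Helper12.TC Cfsg.Agent.Lib.Helper12.TCG

theorem hperm3_0 : permPartG 18364758544493060865 TT 3 tN 0 405 = true := by decide +kernel

theorem hm4 : Fn.marksK TT tN [([2, 1, 3, 0, 2, 0, 3, 1], 1)] = true := by decide +kernel

theorem hm6 : Fn.marksK TT tN [([1, 0], 1)] = true := by decide +kernel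

theorem hm8 : Fn.marksK TT tN [([3, 2], 1)] = true := by decide +kernel

end Cfsg.Agent.Lib.Helper12.TCG.Fi22Ua405
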