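import Cfsg.Agent.Lib.Helper12.TCG.Fi22Ua405.Rel0
import Cfsg.Agent.Lib.Helper12.TCG.Fi22Ua405.Rel1
import Cfsg.Agent.Lib.Helper12.TCG.Fi22Ua405.Rel2
import Cfsg.Agent.Lib.Helper12.TCG.Fi22Ua405.Rel3
import Cfsg.Agent.Lib.Helper12.TCG.Fi22Ua405.Tab
import Cfsg.Agent.Lib.Helper12.Fi22M.PresU2

/-! the permutation representation for Fi22Ua405 (generated, helper12) -/

set_option autoImplicit false
set_option maxRecDepth 100000
set_option linter.unusedSimpArgs false
set_option Elab.async false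

namespace Cfsg.Agent.Lib.Helper12.TCG.Fi22Ua405

open Cfsg.Agent.Lib.Helper12.TC Cfsg.Agent.Lib.Helper12.TCG Cfsg.Agent.Lib.Helper12.Fi22M.PresU2

theorem htN : tN = cN := rfl

theorem hperm0 : permOneG 18364758544493060865 TT 0 tN = true :=
  permOneG_of_OK (permOK_step hperm0_0 rfl
    (permOK_start 18364758544493060865 TT 0 tN))

theorem hperm1 : permOneG 18364758544493060865 TT 1 tN = true :=
  permOneG_of_OK (permOK_step hperm1_0 rfl
    (permOK_start 18364758544493060865 TT 1 tN))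

theorem hperm2 : permOneG 18364758544493060865 TT 2 tN = true :=
  permOneG_of_OK (permOK_step hperm2_0 rfl
    (permOK_start 18364758544493060865 TT 2 tN))

theorem hperm3 : permOneG 18364758544493060865 TT 3 tN = true :=
  permOneG_of_OK (permOK_step hperm3_0 rfl
    (permOK_start 18364758544493060865 TT 3 tN))

theorem hperm : permG cIV TT 4 cN = true := by
  refine permG_of_ones (fun x hx => ?_)
  interval_cases x
  · exact hperm0
  · exact hperm1
  · exact hperm2
  · exact hperm3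

/-- words as powers -/
def specs : List (List ℕ × ℕ) :=
  [([0], 3),
   ([2], 5),
   ([0, 3, 0, 2, 3, 3, 0, 2, 2, 3, 3, 3, 0, 2, 2, 2, 3, 3, 3, 3, 0, 2, 2, 2, 2], 1),
   ([2, 2, 1, 3, 1, 3, 0, 2, 0, 2, 0, 3, 3, 1], 1),
   ([2, 1, 3, 0, 2, 0, 3, 1], 1),
   ([0, 1], 1),
   ([1, 0], 1),
   ([2, 3], 1),
   ([3, 2], 1),
   ([], 1)]

theorem hspecs : baseL = specs.map (fun s => wpow s.1 s.2) := by
  decide +kernel

theorem hfixall : Fn.FixAll TT tN specs :=
  Fn.fixAll_cons (Fn.fix_of_marksK hm0)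
    (Fn.fixAll_cons (Fn.fix_of_marksK hm1)
    (Fn.fixAll_cons (Fn.fix_of_marksK hm2)
    (Fn.fixAll_cons (Fn.fix_of_marksK hm3)
    (Fn.fixAll_cons (Fn.fix_of_marksK hm4)
    (Fn.fixAll_cons (Fn.fix_of_marksK hm5)
    (Fn.fixAll_cons (Fn.fix_of_marksK hm6)
    (Fn.fixAll_cons (Fn.fix_of_marksK hm7)
    (Fn.fixAll_cons (Fn.fix_of_marksK hm8)
    (Fn.fixAll_cons (Fn.fix_of_marksK hm9)
    (Fn.fixAll_nil TT tN))))))))))

theorem hrels : Fn.relsK TT cN baseL = true := by
  rw [hspecs]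
  exact Fn.relsK_of_fixAll hfixall

theorem hsub : Fn.subK TT 4 sw = true := by decide +kernel

theorem htrans : Fn.transK TT 4 cN sw = true := by decide +kernel

end Cfsg.Agent.Lib.Helper12.TCG.Fi22Ua405
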